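import Cfsg.Agent.Lib.Chevalley.F4Graph.Torus
import Cfsg.Agent.Lib.Chevalley.F4Graph.WeylTable

/-!
Elements of order five, seven and eleven of F₄(q) are not moved to the powers needed in alternating sections.
-/

set_option autoImplicit false
set_option maxRecDepth 20000

namespace CfsgLib.Chevalley.F4AltSection

open Tbl
open scoped Matrix
open CfsgLib.Chevalley.CoxeterTorus
open CfsgLib.KnownB.FieldAut (mapGL mapGL_inj map_group)
open F4Graph (torus_inj)

local notation "T4" => Data.F4.tbl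
local notation "hT4" => Data.F4.valid
local notation "hC4" => Data.F4.chkComm

variable {F : Type*} [Field F] [Fintype F] {p : ℕ} [Fact p.Prime] [CharP F p]

include p in
/-- An extension with the roots of unity of order `ℓ`. -/
theorem exists_field {d : ℕ} (hd : 0 < d) :
    ∃ (K : Type) (_ : Field K) (_ : Fintype K) (_ι : F →+* K),
      ∀ ℓ : ℕ, ℓ.Prime → ℓ ≠ p → ℓ - 1 ∣ d → ℓ ∣ Fintype.card K - 1 := by
  classical
  have : NeZero d := ⟨hd.ne'⟩
  let K := FiniteField.Extension F p d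
  letI : Fintype K := Fintype.ofFinite K
  refine ⟨K, inferInstance, inferInstance, algebraMap F K, fun ℓ hℓ hℓp hℓd => ?_⟩
  rw [← Nat.card_eq_fintype_card, FiniteField.natCard_extension, Nat.card_eq_fintype_card]
  obtain ⟨n, hp, hn⟩ := FiniteField.card F p
  have hcop : Nat.Coprime (Fintype.card F) ℓ := by
    rw [hn]
    exact ((Nat.coprime_primes hp hℓ).2 hℓp.symm).pow_left _
  have h1 := Nat.ModEq.pow_totient hcop
  rw [Nat.totient_prime hℓ] at h1
  exact ((Nat.modEq_iff_dvd' (Nat.one_le_pow _ _ Fintype.card_pos)).1 h1.symm).trans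
    (Nat.pow_sub_one_dvd_pow_sub_one _ hℓd)

section Ext

variable {K : Type*} [Field K] [Fintype K] (ι : F →+* K) {ℓ : ℕ} [hℓ : Fact ℓ.Prime]

omit [Fintype F] in
include ι in
/-- The subgroups of `ℓ`-power order are abelian. -/
theorem comm_of_isPGroup (h5 : 5 ≤ ℓ) (hℓK : ℓ ∣ Fintype.card K - 1)
    {P : Subgroup ↥((T4).datum.group F)} (hP : IsPGroup ℓ P) :
    ∀ a ∈ P, ∀ b ∈ P, a * b = b * a := by
  classical
  set D := ((T4).datum.diagonalSubgroup K).subgroupOf ((T4).datum.group K)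
  have hDG : (Nat.card D).factorization ℓ = (Nat.card ((T4).datum.group K)).factorization ℓ := by
    rw [Nat.card_congr (Subgroup.subgroupOfEquivOfLe (diag_le_group hT4)).toEquiv,
      card_flag_dvd hT4 hC4 hℓK (F4Graph.coprime_WP Fact.out h5)]
  obtain ⟨S, hS⟩ := Twist.ToriGen.exists_sylow_le D hDG
  let ψ : ↥((T4).datum.group F) →* ↥((T4).datum.group K) :=
    ((mapGL T4 ι).comp ((T4).datum.group F).subtype).codRestrict _ fun g =>
      map_group ι hT4 ⟨g.1, g.2, rfl⟩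
  have hψ : Function.Injective ψ := fun a b h => Subtype.ext (mapGL_inj ι (congrArg Subtype.val h))
  obtain ⟨Q, hQ⟩ := (hP.map ψ).exists_le_sylow
  obtain ⟨c, hc⟩ := MulAction.exists_smul_eq ↥((T4).datum.group K) S Q
  intro a ha b hb
  apply hψ
  have hmem : ∀ a ∈ P, ∃ f, (ψ a) = c * f * c⁻¹ ∧ f ∈ D := fun a ha => by
    have h1 : ψ a ∈ (Q : Subgroup _) := hQ ⟨a, ha, rfl⟩
    rw [← hc] at h1
    obtain ⟨f, hf, hfe⟩ := h1
    exact ⟨f, hfe.symm, hS hf⟩
  obtain ⟨f, hf, hfD⟩ := hmem a ha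
  obtain ⟨g, hg, hgD⟩ := hmem b hb
  have hfg : f * g = g * f := by
    rw [Subgroup.mem_subgroupOf, ← torusHom_range hT4] at hfD hgD
    obtain ⟨f', hf'⟩ := hfD
    obtain ⟨g', hg'⟩ := hgD
    refine Subtype.ext ?_
    rw [Subgroup.coe_mul, Subgroup.coe_mul, ← hf', ← hg', ← map_mul, ← map_mul, mul_comm]
  rw [map_mul, map_mul, hf, hg]
  calc c * f * c⁻¹ * (c * g * c⁻¹) = c * (f * g) * c⁻¹ := by group
    _ = c * (g * f) * c⁻¹ := by rw [hfg]
    _ = _ := by group

omit [Fintype F] [Fintype K] in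
/-- A Weyl element for a conjugation between torus elements. -/
theorem exists_weyl {x m : GL (T4).I K} (hx : x ∈ (T4).datum.group K) (hm : m ∈ (T4).datum.group K)
    {t t' : GL (T4).I K} {f f' : Fin (T4).rank → Kˣ} (hf : torusHom T4 K f = x * t * x⁻¹)
    (hf' : torusHom T4 K f' = x * t' * x⁻¹) (h : m * t * m⁻¹ = t') :
    ∃ v ∈ (T4).WP hT4, ∀ s : Fin (T4).n, tCh T4 f (v s).val = tCh T4 f' s.val := by
  obtain ⟨-, -, -, -, w, hw, -, -, -, -, -, -, hrel⟩ := decompose hT4 hC4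
    (mul_mem (mul_mem hx hm) (inv_mem hx)) (f := f) (g := f') (by rw [hf, hf', ← h]; group)
  refine ⟨w⁻¹, inv_mem hw, fun s => ?_⟩
  have h1 := hrel (w⁻¹ s)
  rw [← Equiv.Perm.mul_apply, mul_inv_cancel, Equiv.Perm.one_apply] at h1
  exact h1.symm

end Ext

include p in
/-- No element of order eleven is mapped to its third power or a conjugate of it. -/
theorem no_eleven (hp : p ≠ 11) {g m : GL (T4).I F} (hg : g ∈ (T4).datum.group F)
    (hm : m ∈ (T4).datum.group F) (hgo : orderOf g = 11) {c : ℕ} (hc : ¬ c ^ 1152 ≡ 1 [MOD 11])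
    (hcj : m * g * m⁻¹ = g ^ c) : False := by
  classical
  have : Fact (Nat.Prime 11) := ⟨by norm_num⟩
  obtain ⟨K, _, _, ι, hK⟩ := exists_field (F := F) (p := p) (d := 10) (by norm_num)
  obtain ⟨x, hx, f, hf, hf1, hfne⟩ :=
    F4Graph.exists_conj ι (by norm_num) (hK 11 (by norm_num) hp.symm (dvd_refl 10)) hg hgo
  obtain ⟨v, hv, hrel⟩ := exists_weyl hx (map_group ι hT4 ⟨m, hm, rfl⟩) hf (f' := f ^ c)
    (by rw [map_pow, hf, _root_.conj_pow, ← map_pow]) (by rw [← map_inv, ← map_mul, ← map_mul, hcj])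
  simp only [tCh_pow] at hrel
  have hit : ∀ (i : ℕ) (s : Fin (T4).n), tCh T4 f ((v ^ i) s).val = tCh T4 f s.val ^ c ^ i := by
    intro i
    induction i with
    | zero => simp
    | succ i ih =>
      intro s
      rw [pow_succ', Equiv.Perm.mul_apply, hrel, ih, ← pow_mul, ← pow_succ]
  have hv1 : v ^ 1152 = 1 := by
    have h1 := congrArg Subtype.val (pow_card_eq_one' (x := (⟨v, hv⟩ : (T4).WP hT4)))
    rwa [F4_card_WP] at h1
  refine hc ?_
  have h11 : f ^ c ^ 1152 = f := by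
    refine torus_inj (torus_congr hT4 fun s => ?_)
    rw [tCh_pow, ← hit, hv1, Equiv.Perm.one_apply]
  have hfo : orderOf f = 11 := orderOf_eq_prime hf1 hfne
  rw [← hfo]
  exact pow_eq_pow_iff_modEq.1 (h11.trans (pow_one f).symm)

include p in
/-- No commuting elements of orders five and seven are mapped to primitive powers at once. -/
theorem no_five_seven (hp5 : p ≠ 5) (hp7 : p ≠ 7) {g h m : GL (T4).I F} (hg : g ∈ (T4).datum.group F)
    (hh : h ∈ (T4).datum.group F) (hm : m ∈ (T4).datum.group F) (hgo : orderOf g = 5)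
    (hho : orderOf h = 7) (hgh : g * h = h * g) {c d : ℕ} (hc : IsPrimitiveRoot (c : ZMod 5) 4)
    (hd : IsPrimitiveRoot (d : ZMod 7) 6) (hcg : m * g * m⁻¹ = g ^ c) (hdh : m * h * m⁻¹ = h ^ d) :
    False := by
  classical
  have h5 : Fact (Nat.Prime 5) := ⟨by norm_num⟩
  have h7 : Fact (Nat.Prime 7) := ⟨by norm_num⟩
  obtain ⟨K, _, _, ι, hK⟩ := exists_field (F := F) (p := p) (d := 12) (by norm_num)
  have h5K := hK 5 (by norm_num) hp5.symm (by norm_num)
  have h7K := hK 7 (by norm_num) hp7.symm (by norm_num)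
  obtain ⟨x, hx, f2, hf2, hf2s, hf2ne⟩ := F4Graph.exists_conj ι (by norm_num) h7K hh hho
  set A : Subgroup ↥((T4).datum.group K) :=
    (Subgroup.centralizer {torusHom T4 K f2}).subgroupOf ((T4).datum.group K)
  have hmemA : ∀ c : ↥((T4).datum.group K), c ∈ A ↔
      (c : GL (T4).I K) * torusHom T4 K f2 = torusHom T4 K f2 * c := fun c => by
    rw [Subgroup.mem_subgroupOf, Subgroup.mem_centralizer_singleton_iff]
  obtain ⟨z, hzA, f1, hf1⟩ := F4Graph.into_torus (le_refl 5) h5K A (fun e he => by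
      rw [Subgroup.mem_subgroupOf, ← torusHom_range hT4] at he
      obtain ⟨f, hf⟩ := he
      rw [hmemA, ← hf, ← map_mul, ← map_mul, mul_comm])
    (y := ⟨x * mapGL T4 ι g * x⁻¹, mul_mem (mul_mem hx (map_group ι hT4 ⟨g, hg, rfl⟩)) (inv_mem hx)⟩)
    ((hmemA _).2 (by
      rw [hf2]
      show x * mapGL T4 ι g * x⁻¹ * _ = _ * (x * mapGL T4 ι g * x⁻¹)
      calc _ = x * (mapGL T4 ι g * mapGL T4 ι h) * x⁻¹ := by group
        _ = x * (mapGL T4 ι h * mapGL T4 ι g) * x⁻¹ := by rw [← map_mul, ← map_mul, hgh]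
        _ = _ := by group))
    (by
      rw [← Subgroup.orderOf_coe]
      show orderOf (MulAut.conj x (mapGL T4 ι g)) = 5
      rw [MulEquiv.orderOf_eq, orderOf_injective _ (mapGL_inj ι), hgo])
  set y : GL (T4).I K := (z : GL (T4).I K) * x with hydef
  have hy : y ∈ (T4).datum.group K := mul_mem z.2 hx
  have hy1 : torusHom T4 K f1 = y * mapGL T4 ι g * y⁻¹ := by
    rw [hf1, hydef]
    show _ * (x * mapGL T4 ι g * x⁻¹) * _ = _
    group
  have hy2 : torusHom T4 K f2 = y * mapGL T4 ι h * y⁻¹ := by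
    calc torusHom T4 K f2 = (z : GL (T4).I K) * torusHom T4 K f2 * (z : GL (T4).I K)⁻¹ := by
          rw [(hmemA _).1 hzA, mul_inv_cancel_right]
      _ = _ := by rw [hf2, hydef]; group
  have hf1s : f1 ^ 5 = 1 := torus_inj (by
    rw [map_pow, hy1, _root_.conj_pow, ← map_pow, ← hgo, pow_orderOf_eq_one]
    simp)
  have hf1ne : f1 ≠ 1 := by
    rintro rfl
    rw [map_one, eq_comm, conj_eq_one_iff, ← map_one (mapGL T4 ι)] at hy1
    rw [mapGL_inj ι hy1, orderOf_one] at hgo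
    exact absurd hgo (by norm_num)
  obtain ⟨v, hv, hrel⟩ := exists_weyl hy (map_group ι hT4 ⟨m, hm, rfl⟩) (t := mapGL T4 ι (g * h))
    (f := f1 * f2) (by rw [map_mul, map_mul, hy1, hy2]; group)
    (t' := mapGL T4 ι (g ^ c * h ^ d)) (f' := f1 ^ c * f2 ^ d)
    (by
      simp only [map_mul, map_pow]
      rw [hy1, hy2, _root_.conj_pow, _root_.conj_pow]
      group)
    (by
      rw [← map_inv, ← map_mul, ← map_mul]
      congr 1
      rw [← hcg, ← hdh]
      group)
  have key : ∀ (ℓ e : ℕ) (_ : Fact ℓ.Prime) (c d k : ℕ) (f g : Fin (T4).rank → Kˣ), 5 ≤ ℓ →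
      ℓ ∣ Fintype.card K - 1 → IsPrimitiveRoot (c : ZMod ℓ) e → f ^ ℓ = 1 → f ≠ 1 → g ^ k = 1 →
      ℓ.Coprime k → (∀ u : Fin (T4).n, tCh T4 (f * g) (v u).val = tCh T4 (f ^ c * g ^ d) u.val) →
      (Polynomial.aeval (mat T4 hT4 v) (Polynomial.cyclotomic e ℤ)).det = 0 := by
    intro ℓ e _ c d k f g h5 hℓK he hfℓ hfne hgk hcop hr'
    obtain ⟨ζ, hζ⟩ := exists_prime_orderOf_dvd_card' (G := Kˣ) ℓ (by
      rw [Nat.card_units, Nat.card_eq_fintype_card]; exact hℓK)
    obtain ⟨a, ha⟩ := F4Graph.exists_log hζ hfℓ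
    have hg1 : ∀ u, tCh T4 g u ^ k = 1 := fun u => by rw [← tCh_pow, hgk]; simp [tCh]
    have hf1' : ∀ u, tCh T4 f u ^ ℓ = 1 := fun u => by rw [← tCh_pow, hfℓ]; simp [tCh]
    have hrel' : ∀ u : Fin (T4).n, tCh T4 f (v u).val = tCh T4 f u.val ^ c := by
      intro u
      have h1 := congrArg (· ^ k) (hr' u)
      simp only [F4Graph.tCh_mul, tCh_pow, mul_pow, hg1, mul_one] at h1
      rw [show (tCh T4 g u.val ^ d) ^ k = 1 by rw [pow_right_comm, hg1, one_pow], mul_one] at h1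
      rw [← mul_inv_eq_one]
      have h2 : (tCh T4 f (v u).val * (tCh T4 f u.val ^ c)⁻¹) ^ ℓ = 1 := by
        rw [mul_pow, hf1', one_mul, inv_pow, pow_right_comm, hf1', one_pow, inv_one]
      have h3 : (tCh T4 f (v u).val * (tCh T4 f u.val ^ c)⁻¹) ^ k = 1 := by
        rw [mul_pow, h1, inv_pow, mul_inv_cancel]
      have h4 := pow_gcd_eq_one.2 ⟨h2, h3⟩
      rwa [hcop.gcd_eq_one, pow_one] at h4
    have hN : mat T4 hT4 v ^ orderOf v = 1 := by rw [← mat_pow hT4 hv, pow_orderOf_eq_one, mat_one]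
    obtain ⟨ν, -, hν, hν0⟩ := F4Graph.exists_killed (mat T4 hT4 v) hN (orderOf_pos v)
      (fun h => (Fact.out : ℓ.Prime).ne_one (Nat.eq_one_of_dvd_coprimes (F4Graph.coprime_WP Fact.out h5)
        dvd_rfl (h.trans (Subgroup.orderOf_dvd_natCard _ hv))))
      he (fun _ => True) trivial (fun _ _ _ _ => trivial) (fun _ _ _ => trivial) (fun _ _ => trivial)
      (μ := a) trivial (F4Graph.cast_ne_zero hζ ha hfne)
      (F4Graph.eigen_of_rel hζ a hv fun u => by rw [← ha, ← ha, hrel'])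
    exact F4Graph.det_eq_zero_of_killed hν hν0
  have h4 := key 5 4 h5 c d 7 f1 f2 le_rfl h5K hc hf1s hf1ne hf2s (by norm_num) hrel
  have h6 := key 7 6 h7 d c 5 f2 f1 (by norm_num) h7K hd hf2s hf2ne hf1s (by norm_num)
    (fun u => by rw [mul_comm f2 f1, mul_comm (f2 ^ d)]; exact hrel u)
  have h46 := F4Graph.aeval_two_cyclotomic (mat T4 hT4 v) (k := 4) (l := 6) (by norm_num) (by norm_num)
    (by norm_num) (by decide) h4 h6
  rcases F4Graph.weyl_pair hv (Or.inr (Or.inr ⟨rfl, rfl⟩)) h46 with h | h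
  · exact F4Graph.det_ne_zero_of_aeval_eq_zero _ (by norm_num) h h6
  · exact F4Graph.det_ne_zero_of_aeval_eq_zero _ (by norm_num) h h4

end CfsgLib.Chevalley.F4AltSection
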