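import Cfsg.Agent.Lib.Chevalley.Twist.ToriGen

/-!
Elements of prime order mapped to a power of themselves, over such a relation in a quotient.
-/

set_option autoImplicit false

namespace CfsgLib.Chevalley.F4AltSection

variable {H Q : Type*} [Group H] [Finite H] [Group Q] (φ : H →* Q)

/-- An element conjugating a cyclic subgroup's generator to a power normalises it. -/
theorem mem_normalizer_zpowers [Finite Q] {s t : Q} {c : ℕ} (h : t * s * t⁻¹ = s ^ c) :
    t ∈ Subgroup.normalizer (Subgroup.zpowers s : Set Q) := by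
  refine Twist.ToriGen.mem_normalizer_of_conj fun b hb => ?_
  obtain ⟨i, rfl⟩ := Subgroup.mem_zpowers_iff.1 hb
  rw [← conj_zpow, h]
  exact zpow_mem (pow_mem (Subgroup.mem_zpowers s) c) i

/-- From an element of an abelian subgroup of prime power order, an eigenvector of prime order. -/
theorem eigen {ℓ : ℕ} [hℓ : Fact ℓ.Prime] (P : Subgroup H) (hP : IsPGroup ℓ P)
    (hab : ∀ a ∈ P, ∀ b ∈ P, a * b = b * a) {m x : H} (hmP : m ∈ Subgroup.normalizer (P : Set H))
    (hN : ¬ ℓ ∣ orderOf m) (hx : x ∈ P) (ho : orderOf (φ x) = ℓ) {c : ℕ}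
    (hact : φ m * φ x * (φ m)⁻¹ = φ x ^ c) :
    ∃ g ∈ P, orderOf g = ℓ ∧ m * g * m⁻¹ = g ^ c := by
  classical
  obtain ⟨e, he⟩ := IsPGroup.iff_card.1 hP
  have he1 : ℓ ∣ ℓ ^ e := by
    have h1 : orderOf (⟨x, hx⟩ : P) ∣ ℓ ^ e := he ▸ orderOf_dvd_natCard _
    rw [← Subgroup.orderOf_coe] at h1
    have h2 := (orderOf_map_dvd φ x).trans h1
    rwa [ho] at h2
  set N := orderOf m with hNdef
  have hN0 : 0 < N := orderOf_pos m
  have hpow : ∀ i : ℕ, φ m ^ i * φ x * (φ m ^ i)⁻¹ = φ x ^ c ^ i := by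
    intro i
    induction i with
    | zero => simp
    | succ i ih =>
      rw [pow_succ', mul_inv_rev]
      calc φ m * φ m ^ i * φ x * ((φ m ^ i)⁻¹ * (φ m)⁻¹)
          = φ m * (φ m ^ i * φ x * (φ m ^ i)⁻¹) * (φ m)⁻¹ := by group
        _ = _ := by rw [ih, ← conj_pow, hact, ← pow_mul, ← pow_succ']
  have hcN : c ^ N ≡ 1 [MOD ℓ] := by
    have h2 := hpow N
    rw [← map_pow, hNdef, pow_orderOf_eq_one, map_one, one_mul, inv_one, mul_one] at h2
    have h := pow_eq_pow_iff_modEq.1 (h2.symm.trans (pow_one (φ x)).symm)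
    rwa [ho] at h
  set C := c ^ ℓ ^ e with hC
  have hCc : C ≡ c [MOD ℓ] := by
    rw [← ZMod.natCast_eq_natCast_iff, hC, Nat.cast_pow, ZMod.pow_card_pow]
  have hCN : C ^ N ≡ 1 [MOD ℓ ^ e] := by
    rw [hC, ← pow_mul, mul_comm, pow_mul]
    have h1 : ((ℓ : ℕ) : ℤ) ∣ 1 - ((c ^ N : ℕ) : ℤ) := by
      have := Nat.modEq_iff_dvd.1 hcN
      simpa using this
    have h2 := dvd_sub_pow_of_dvd_sub h1 e
    rw [one_pow] at h2
    refine Nat.modEq_iff_dvd.2 ?_
    push_cast at h2 ⊢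
    exact (pow_dvd_pow _ (Nat.le_succ e)).trans h2
  set D := C ^ (N - 1) with hD
  have hCD : C * D ≡ 1 [MOD ℓ ^ e] := by
    rw [hD, ← pow_succ', Nat.sub_add_cancel hN0]
    exact hCN
  let y : ℕ → P := fun i => ⟨m ^ i * x * (m ^ i)⁻¹,
    (Subgroup.mem_normalizer_iff.1 (pow_mem hmP i) x).1 hx⟩
  let _ : CommGroup P :=
    { (inferInstance : Group P) with mul_comm := fun a b => Subtype.ext (hab a a.2 b b.2) }
  let F : ℕ → P := fun i => y i ^ (D ^ i * C)
  set g : P := ∏ i ∈ Finset.range N, y i ^ D ^ i with hg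
  have hexp : ∀ (z : P) {a b : ℕ}, a ≡ b [MOD ℓ ^ e] → z ^ a = z ^ b := fun z a b h =>
    pow_eq_pow_iff_modEq.2 (h.of_dvd (he ▸ orderOf_dvd_natCard z))
  have hFN : F N = F 0 := by
    have hy : y N = y 0 := Subtype.ext (by simp [y, hNdef, pow_orderOf_eq_one])
    show y N ^ _ = y 0 ^ _
    rw [hy]
    refine hexp _ (Nat.ModEq.mul_right _ ?_)
    rw [pow_zero, hD, ← pow_mul, mul_comm, pow_mul]
    exact (hCN.pow _).trans (by rw [one_pow])
  let cj : P →* H := (MulAut.conj m).toMonoidHom.comp P.subtype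
  have h1 : ∀ i, cj (y i ^ D ^ i) = ((F (i + 1) : P) : H) := fun i => by
    have h2 : D ^ i ≡ D ^ (i + 1) * C [MOD ℓ ^ e] := by
      rw [pow_succ, mul_assoc]
      conv_lhs => rw [← mul_one (D ^ i)]
      refine Nat.ModEq.mul_left _ ?_
      rw [mul_comm]
      exact hCD.symm
    show _ = ((y (i + 1) ^ (D ^ (i + 1) * C) : P) : H)
    rw [← hexp (y (i + 1)) h2, SubgroupClass.coe_pow, map_pow]
    congr 1
    show m * (m ^ i * x * (m ^ i)⁻¹) * m⁻¹ = m ^ (i + 1) * x * (m ^ (i + 1))⁻¹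
    rw [pow_succ', mul_inv_rev]
    group
  have hcj : cj g = ((g ^ C : P) : H) := by
    have h3 : (∏ i ∈ Finset.range N, F (i + 1)) = ∏ i ∈ Finset.range N, F i := by
      have h4 := (Finset.prod_range_succ' F N).symm.trans (Finset.prod_range_succ F N)
      rw [hFN] at h4
      exact mul_right_cancel h4
    have h5 : g ^ C = ∏ i ∈ Finset.range N, F i := by
      rw [hg, ← Finset.prod_pow]
      exact Finset.prod_congr rfl fun i _ => by rw [← pow_mul]
    rw [h5, ← h3]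
    have h6 : ∀ l : ℕ, cj (∏ i ∈ Finset.range l, y i ^ D ^ i) =
        ((∏ i ∈ Finset.range l, F (i + 1) : P) : H) := by
      intro l
      induction l with
      | zero => simp
      | succ l ih => rw [Finset.prod_range_succ, Finset.prod_range_succ, map_mul, ih, h1, Subgroup.coe_mul]
    exact h6 N
  have hφ : φ (g : H) = φ x ^ N := by
    have h6 : ∀ l : ℕ, φ ((∏ i ∈ Finset.range l, y i ^ D ^ i : P) : H) = φ x ^ l := by
      intro l
      induction l with
      | zero => simp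
      | succ l ih =>
        rw [Finset.prod_range_succ, Subgroup.coe_mul, map_mul, ih, SubgroupClass.coe_pow, map_pow,
          pow_succ]
        congr 1
        show φ (m ^ l * x * (m ^ l)⁻¹) ^ D ^ l = φ x
        rw [map_mul, map_mul, map_inv, map_pow, hpow, ← pow_mul, ← mul_pow]
        conv_rhs => rw [← pow_one (φ x)]
        rw [pow_eq_pow_iff_modEq, ho]
        refine (Nat.ModEq.pow l ?_).trans (by rw [one_pow])
        exact ((hCc.mul_right D).symm).trans (hCD.of_dvd he1)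
    exact h6 N
  obtain ⟨k, hk⟩ := IsPGroup.iff_orderOf.1 hP g
  have hk0 : k ≠ 0 := by
    rintro rfl
    rw [pow_zero, orderOf_eq_one_iff] at hk
    rw [hk, Subgroup.coe_one, map_one, eq_comm, ← orderOf_dvd_iff_pow_eq_one, ho] at hφ
    exact hN hφ
  set z : H := (g : H) ^ ℓ ^ (k - 1) with hz
  have hgk : orderOf (g : H) = ℓ ^ k := by rw [Subgroup.orderOf_coe, hk]
  have hzo : orderOf z = ℓ := by
    rw [hz, orderOf_pow' _ (pow_ne_zero _ hℓ.out.ne_zero), hgk,
      Nat.gcd_eq_right (pow_dvd_pow _ (Nat.sub_le k 1)), Nat.pow_div (Nat.sub_le k 1) hℓ.out.pos,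
      show k - (k - 1) = 1 by omega, pow_one]
  refine ⟨z, pow_mem g.2 _, hzo, ?_⟩
  have h7 : m * (g : H) * m⁻¹ = (g : H) ^ C := by rw [← SubgroupClass.coe_pow]; exact hcj
  rw [hz, ← conj_pow, h7, ← pow_mul, mul_comm, pow_mul, ← hz, pow_eq_pow_iff_modEq, hzo]
  exact hCc

/-- Frattini: over a cyclic subgroup of prime order, its normaliser lifts to that of a Sylow subgroup. -/
theorem lift_normalizer {ℓ : ℕ} [hℓ : Fact ℓ.Prime] {s : Q} (hs : orderOf s = ℓ) (hsr : s ∈ φ.range) :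
    ∃ P : Subgroup H, IsPGroup ℓ P ∧ (∀ x ∈ P, φ x ∈ Subgroup.zpowers s) ∧ (∃ x ∈ P, φ x = s) ∧
      ∀ t ∈ φ.range, t ∈ Subgroup.normalizer (Subgroup.zpowers s : Set Q) →
        ∃ n ∈ Subgroup.normalizer (P : Set H), φ n = t := by
  classical
  set M := (Subgroup.zpowers s).comap φ with hM
  obtain ⟨P⟩ : Nonempty (Sylow ℓ M) := inferInstance
  let f : M →* Subgroup.zpowers s := φ.subgroupComap _
  have hf : Function.Surjective f := by
    rintro ⟨z, hz⟩
    obtain ⟨i, hi⟩ := Subgroup.mem_zpowers_iff.1 hz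
    obtain ⟨x, hx⟩ := hsr
    exact ⟨⟨x ^ i, show φ (x ^ i) ∈ _ by rw [map_zpow, hx, hi]; exact hz⟩,
      Subtype.ext (show φ (x ^ i) = z by rw [map_zpow, hx, hi])⟩
  have htop : (P : Subgroup M).map f = ⊤ := by
    rw [← Subgroup.index_eq_one]
    have h1 := Subgroup.index_map_dvd (P : Subgroup M) hf
    have h2 : ((P : Subgroup M).map f).index ∣ ℓ := by
      have := ((P : Subgroup M).map f).index_dvd_card
      rwa [Nat.card_zpowers, hs] at this
    rcases (Nat.dvd_prime hℓ.out).1 h2 with h | h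
    · exact h
    · exact absurd (by rwa [h] at h1) P.not_dvd_index
  set PH := (P : Subgroup M).map M.subtype with hPH
  have hlift : ∀ z ∈ Subgroup.zpowers s, ∃ x ∈ PH, φ x = z := by
    intro z hz
    obtain ⟨x, hx, hxe⟩ : (⟨z, hz⟩ : Subgroup.zpowers s) ∈ (P : Subgroup M).map f := by
      rw [htop]; exact Subgroup.mem_top _
    exact ⟨x.1, ⟨x, hx, rfl⟩, congrArg Subtype.val hxe⟩
  refine ⟨PH, P.2.map _, by rintro _ ⟨u, -, rfl⟩; exact u.2, hlift s (Subgroup.mem_zpowers s), fun t htr ht => ?_⟩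
  obtain ⟨y, rfl⟩ := htr
  set K := (Subgroup.normalizer (Subgroup.zpowers s : Set Q)).comap φ
  have hMK : M ≤ K := Subgroup.comap_mono Subgroup.le_normalizer
  have hMn : (M.subgroupOf K).Normal := by
    refine (Subgroup.normal_subgroupOf_iff_le_normalizer hMK).2 fun z hz => ?_
    refine Subgroup.mem_normalizer_iff.2 fun w => ?_
    show φ w ∈ Subgroup.zpowers s ↔ φ (z * w * z⁻¹) ∈ Subgroup.zpowers s
    rw [map_mul, map_mul, map_inv]
    exact Subgroup.mem_normalizer_iff.1 hz (φ w)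
  let eM := Subgroup.subgroupOfEquivOfLe hMK
  let P' : Sylow ℓ (M.subgroupOf K) := P.comapOfInjective eM.toMonoidHom eM.injective
    (by rw [MonoidHom.range_eq_top.2 eM.surjective]; exact le_top)
  have hfr := Sylow.normalizer_sup_eq_top P'
  set PK := (P' : Subgroup ↥(M.subgroupOf K)).map (M.subgroupOf K).subtype with hPK
  have hyK : (⟨y, ht⟩ : K) ∈ Subgroup.normalizer (PK : Set K) ⊔ M.subgroupOf K := by
    rw [hfr]; exact Subgroup.mem_top _
  obtain ⟨n, hn, μ, hμ, e⟩ := Subgroup.mem_sup_of_normal_right.1 hyK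
  have hPKH : PK.map K.subtype = PH := by
    ext z
    constructor
    · rintro ⟨w, ⟨u, hu, rfl⟩, rfl⟩
      exact ⟨eM u, hu, rfl⟩
    · rintro ⟨u, hu, rfl⟩
      refine ⟨(eM.symm u : M.subgroupOf K), ⟨eM.symm u, ?_, rfl⟩, rfl⟩
      show eM (eM.symm u) ∈ (P : Subgroup M)
      rwa [MulEquiv.apply_symm_apply]
  have hnH : (n : H) ∈ Subgroup.normalizer (PH : Set H) := by
    rw [← hPKH]
    exact Subgroup.le_normalizer_map K.subtype ⟨n, hn, rfl⟩
  obtain ⟨x, hx, hxe⟩ := hlift _ (show φ (μ : H) ∈ Subgroup.zpowers s from hμ)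
  refine ⟨(n : H) * x, mul_mem hnH (Subgroup.le_normalizer hx), ?_⟩
  rw [map_mul, hxe, ← map_mul]
  exact congrArg φ (congrArg Subtype.val e)

/-- The part of the order prime to `a`. -/
theorem not_dvd_orderOf_pow (n : H) {a : ℕ} (ha : a.Prime) {E : ℕ}
    (hE : a ^ (orderOf n).factorization a ∣ E) : ¬ a ∣ orderOf (n ^ E) := by
  intro h
  refine Nat.not_dvd_ordCompl ha (orderOf_pos n).ne' (h.trans (orderOf_dvd_of_pow_eq_one ?_))
  rw [← pow_mul, ← orderOf_dvd_iff_pow_eq_one]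
  conv_lhs => rw [← Nat.ordProj_mul_ordCompl_eq_self (orderOf n) a]
  exact Nat.mul_dvd_mul_right hE _

omit [Finite H] in
theorem conj_pow_pow {G : Type*} [Group G] {t s : G} {c : ℕ} (h : t * s * t⁻¹ = s ^ c) (i : ℕ) :
    t ^ i * s * (t ^ i)⁻¹ = s ^ c ^ i := by
  induction i with
  | zero => simp
  | succ i ih =>
    rw [pow_succ', mul_inv_rev]
    calc t * t ^ i * s * ((t ^ i)⁻¹ * t⁻¹)
        = t * (t ^ i * s * (t ^ i)⁻¹) * t⁻¹ := by group
      _ = _ := by rw [ih, ← conj_pow, h, ← pow_mul, ← pow_succ']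

/-- One prime. -/
theorem single [Finite Q] {ℓ : ℕ} [hℓ : Fact ℓ.Prime]
    (hab : ∀ P : Subgroup H, IsPGroup ℓ P → ∀ a ∈ P, ∀ b ∈ P, a * b = b * a)
    {s t : Q} (hs : orderOf s = ℓ) (hsr : s ∈ φ.range) (htr : t ∈ φ.range) {c : ℕ}
    (hst : t * s * t⁻¹ = s ^ c) :
    ∃ g m : H, ∃ j : ℕ, orderOf g = ℓ ∧ m * g * m⁻¹ = g ^ c ^ ℓ ^ j := by
  obtain ⟨P, hP, -, ⟨x, hx, hxe⟩, hlift⟩ := lift_normalizer φ hs hsr
  obtain ⟨n, hn, hne⟩ := hlift t htr (mem_normalizer_zpowers hst)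
  obtain ⟨g, -, hgo, hg⟩ := eigen φ P hP (hab P hP) (pow_mem hn (ℓ ^ (orderOf n).factorization ℓ))
    (not_dvd_orderOf_pow n hℓ.out dvd_rfl) hx (by rw [hxe, hs])
    (c := c ^ ℓ ^ (orderOf n).factorization ℓ) (by rw [map_pow, hne, hxe]; exact conj_pow_pow hst _)
  exact ⟨g, n ^ ℓ ^ (orderOf n).factorization ℓ, _, hgo, hg⟩

/-- Two primes at once. -/
theorem double [Finite Q] {a b : ℕ} [ha : Fact a.Prime] [hb : Fact b.Prime] (hne : a ≠ b)
    (haba : ∀ P : Subgroup H, IsPGroup a P → ∀ x ∈ P, ∀ y ∈ P, x * y = y * x)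
    (habb : ∀ P : Subgroup H, IsPGroup b P → ∀ x ∈ P, ∀ y ∈ P, x * y = y * x)
    {u w t : Q} (hu : orderOf u = a) (hw : orderOf w = b) (huw : u * w = w * u)
    (hur : u ∈ φ.range) (hwr : w ∈ φ.range) (htr : t ∈ φ.range) {c d : ℕ}
    (htu : t * u * t⁻¹ = u ^ c) (htw : t * w * t⁻¹ = w ^ d) :
    ∃ g h m : H, ∃ i j : ℕ, orderOf g = a ∧ orderOf h = b ∧ g * h = h * g ∧
      m * g * m⁻¹ = g ^ c ^ (a ^ i * b ^ j) ∧ m * h * m⁻¹ = h ^ d ^ (a ^ i * b ^ j) := by
  classical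
  obtain ⟨P, hP, -, ⟨x, hx, hxe⟩, hlift⟩ := lift_normalizer φ hw hwr
  set H1 := Subgroup.normalizer (P : Set H) with hH1
  have huN : u ∈ Subgroup.normalizer (Subgroup.zpowers w : Set Q) := mem_normalizer_zpowers (c := 1)
    (by rw [pow_one, huw, mul_inv_cancel_right])
  have hrange : ∀ z ∈ φ.range, z ∈ Subgroup.normalizer (Subgroup.zpowers w : Set Q) →
      z ∈ (φ.comp H1.subtype).range := fun z hz hz' => by
    obtain ⟨n, hn, hne⟩ := hlift z hz hz'
    exact ⟨⟨n, hn⟩, hne⟩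
  obtain ⟨R1, hR1, hR1s, ⟨y, hy, hye⟩, hlift1⟩ := lift_normalizer (φ.comp H1.subtype) hu (hrange u hur huN)
  obtain ⟨n1, hn1, hne1⟩ := hlift1 t (hrange t htr (mem_normalizer_zpowers htw)) (mem_normalizer_zpowers htu)
  set R := R1.map H1.subtype with hR
  set n : H := n1.1 with hn
  have hnR : n ∈ Subgroup.normalizer (R : Set H) := Subgroup.le_normalizer_map H1.subtype ⟨n1, hn1, rfl⟩
  have hnP : n ∈ Subgroup.normalizer (P : Set H) := n1.2
  have hRa : IsPGroup a R := hR1.map _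
  have hRP : ∀ r ∈ R, r ∈ Subgroup.normalizer (P : Set H) := by
    rintro _ ⟨r, -, rfl⟩
    exact r.2
  -- the part of `P` centralised by `R`
  set X := P ⊓ Subgroup.centralizer (R : Set H) with hX
  have hnX : n ∈ Subgroup.normalizer (X : Set H) := by
    refine Twist.ToriGen.mem_normalizer_of_conj fun z hz => ⟨(Subgroup.mem_normalizer_iff.1 hnP z).1 hz.1,
      Subgroup.mem_centralizer_iff.2 fun r hr => ?_⟩
    have hr' : n⁻¹ * r * n ∈ R := by
      have := (Subgroup.mem_normalizer_iff.1 (inv_mem hnR) r).1 hr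
      rwa [inv_inv] at this
    have h1 := Subgroup.mem_centralizer_iff.1 hz.2 _ hr'
    calc r * (n * z * n⁻¹) = n * ((n⁻¹ * r * n) * z) * n⁻¹ := by group
      _ = n * (z * (n⁻¹ * r * n)) * n⁻¹ := by rw [h1]
      _ = _ := by group
  let _ : CommGroup P :=
    { (inferInstance : Group P) with mul_comm := fun a b => Subtype.ext (habb P hP a a.2 b b.2) }
  let _ : Fintype R := Fintype.ofFinite _
  let cf : R → P → P := fun r z => ⟨r * z * (r : H)⁻¹, (Subgroup.mem_normalizer_iff.1 (hRP r r.2) z).1 z.2⟩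
  set v : P := ∏ r : R, cf r ⟨x, hx⟩ with hv
  have hcm : ∀ (r : R) (S : Finset R), cf r (∏ s ∈ S, cf s ⟨x, hx⟩) = ∏ s ∈ S, cf (r * s) ⟨x, hx⟩ := by
    intro r S
    induction S using Finset.induction_on with
    | empty => exact Subtype.ext (by simp [cf])
    | insert s S hs ih =>
      rw [Finset.prod_insert hs, Finset.prod_insert hs, ← ih]
      refine Subtype.ext ?_
      simp only [cf, Subgroup.coe_mul]
      group
  have hvX : (v : H) ∈ X := by
    refine ⟨v.2, Subgroup.mem_centralizer_iff.2 fun r hr => ?_⟩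
    have h1 := hcm ⟨r, hr⟩ Finset.univ
    rw [← hv, show (∏ s : R, cf (⟨r, hr⟩ * s) ⟨x, hx⟩) = v from
      Fintype.prod_equiv (Equiv.mulLeft (⟨r, hr⟩ : R)) _ _ fun _ => rfl] at h1
    have h2 : r * (v : H) * r⁻¹ = v := congrArg Subtype.val h1
    calc r * (v : H) = r * (v : H) * r⁻¹ * r := by group
      _ = _ := by rw [h2]
  have hφR : ∀ r ∈ R, φ r * w * (φ r)⁻¹ = w := by
    rintro _ ⟨r, hr, rfl⟩
    obtain ⟨i, hi⟩ := Subgroup.mem_zpowers_iff.1 (hR1s r hr)
    rw [show φ (H1.subtype r) = u ^ i from hi.symm, ((show Commute u w from huw).zpow_left i).eq,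
      mul_inv_cancel_right]
  have hφv : φ (v : H) = w ^ Nat.card R := by
    rw [Nat.card_eq_fintype_card, ← Finset.card_univ, hv]
    have h6 : ∀ S : Finset R, φ ((∏ r ∈ S, cf r ⟨x, hx⟩ : P) : H) = w ^ S.card := by
      intro S
      induction S using Finset.induction_on with
      | empty => simp
      | insert r S hr ih =>
        rw [Finset.prod_insert hr, Finset.card_insert_of_notMem hr, Subgroup.coe_mul, map_mul, ih, pow_succ']
        congr 1
        show φ ((r : H) * x * (r : H)⁻¹) = w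
        rw [map_mul, map_mul, map_inv, hxe, hφR r r.2]
    exact h6 _
  set E := a ^ (orderOf n).factorization a * b ^ (orderOf n).factorization b with hE
  have hov : orderOf (φ (v : H)) = b := by
    obtain ⟨k, hk⟩ := IsPGroup.iff_card.1 hRa
    rw [hφv, hk, Nat.Coprime.orderOf_pow (by
      rw [hw]; exact ((Nat.coprime_primes hb.out ha.out).2 hne.symm).pow_right k), hw]
  have hme : φ (n ^ E) = t ^ E := by
    rw [map_pow, show φ n = t from hne1]
  obtain ⟨g, hgR, hgo, hg⟩ := eigen φ R hRa (haba R hRa) (pow_mem hnR E)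
    (not_dvd_orderOf_pow n ha.out (hE ▸ dvd_mul_right _ _)) (x := (y : H)) ⟨y, hy, rfl⟩
    (by rw [show φ (y : H) = u from hye, hu]) (c := c ^ E)
    (by rw [hme, show φ (y : H) = u from hye]; exact conj_pow_pow htu _)
  obtain ⟨h, hhX, hho, hh⟩ := eigen φ X (hP.to_le inf_le_left)
    (habb X (hP.to_le inf_le_left)) (pow_mem hnX E)
    (not_dvd_orderOf_pow n hb.out (hE ▸ dvd_mul_left _ _)) hvX hov (c := d ^ E)
    (by rw [hme, hφv, ← conj_pow, conj_pow_pow htw, ← pow_mul, ← pow_mul, mul_comm])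
  exact ⟨g, h, n ^ E, _, _, hgo, hho, Subgroup.mem_centralizer_iff.1 hhX.2 g hgR, hg, hh⟩

end CfsgLib.Chevalley.F4AltSection
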